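import Groth.Agent.FlatMorDegree.Deg
import Groth.Agent.FlatMorWeight.LevelSets
import Groth.Agent.H8Top.General

/-! Level sets of the degree of a quasi-compact morphism are retrocompact. -/

universe u

set_option autoImplicit false
set_option backward.isDefEq.respectTransparency false

open CategoryTheory Limits AlgebraicGeometry TopologicalSpace
open Groth.Agent.H8ProCons

namespace Groth.Agent.FlatMorDegree

/-- Locally constructible subsets of schemes are retrocompact. -/
theorem isRetrocompact_of_isLocallyConstructible {S : Scheme.{u}} {T : Set S}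
    (hT : Topology.IsLocallyConstructible T) : IsRetrocompact T := by
  intro W hWc hWo
  obtain ⟨s, hs, hWeq⟩ := S.isBasis_affineOpens.exists_finite_of_isCompact (U := ⟨W, hWo⟩) hWc
  have h : ∀ V : S.Opens, V ∈ s → IsCompact (T ∩ (V : Set S)) := by
    intro V hV
    have hVa : IsAffineOpen V := hs hV
    have : IsAffine V.toScheme := hVa
    obtain ⟨h1, h2⟩ := isLocallyConstructible_iff_ind_and_pro.1 hT
    have hT' : Topology.IsLocallyConstructible (V.ι ⁻¹' T) :=
      isLocallyConstructible_iff_ind_and_pro.2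
        ⟨isIndConstructible_preimage V.ι h1, isProConstructible_preimage V.ι h2⟩
    have hr := H8Top.isRetrocompact_of_isLocallyConstructible
      (B := {O : Set V.toScheme | IsOpen O ∧ IsCompact O})
      PrespectralSpace.isTopologicalBasis (fun O hO => hO.2.isRetrocompact hO.1) hT'
    have := hr.isCompact.image V.ι.continuous
    rwa [Set.image_preimage_eq_inter_range, Scheme.Opens.range_ι] at this
  obtain ⟨hsfin, hWeq⟩ := hWeq
  have hW : T ∩ W = ⋃ V ∈ s, T ∩ (V : Set S) := by
    have := congrArg SetLike.coe hWeq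
    rw [Opens.coe_sSup] at this
    rw [show W = ⋃ V ∈ s, (V : Set S) from this, Set.inter_iUnion₂]
  rw [hW]
  exact hsfin.isCompact_biUnion h

variable {X S : Scheme.{u}} (f : X ⟶ S)
variable [IsSeparated f] [LocallyQuasiFinite f] [LocallyOfFiniteType f] [Flat f]
  [LocallyOfFinitePresentation f] [QuasiCompact f]

theorem exists_indConstructible_nhd (s : S) :
    ∃ F, ProCons.IsIndConstructible F ∧ s ∈ F ∧ ∀ t ∈ F, deg f t = deg f s := by
  have hbd := fun t => exists_not_degGE f t
  have hle : ∀ t d, degGE f t d ↔ d ≤ deg f t := fun t d => by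
    obtain ⟨n, hn⟩ := hbd t
    exact degGE_iff_le_deg f hn d
  obtain ⟨U, g, u, hg, hgu, W, hW, N, huN, hN⟩ := exists_etale_piece f ((hle s _).2 le_rfl)
  let π := pullback.snd f g
  let r := deg f s
  -- the locus where the degree is that of the piece
  have hout : ∀ v, r ≤ (W.ι ≫ π).finrank v → (v ∈ π '' (W : Set _)ᶜ) → degGE f (g v) (r + 1) := by
    rintro v hv ⟨w, hwW, rfl⟩
    obtain ⟨w', hw'⟩ : w ∈ Set.range (π.fiberι (π w)) := by rw [π.range_fiberι]; rfl
    obtain ⟨h1, h2⟩ := finrank_piece π W (π w)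
    let q := π.fiberToSpecResidueField (π w)
    have : DiscreteTopology (π.fiber (π w)) :=
      discreteTopology_of_lqf (L := U.residueField (π w)) q
    let V₀ := π.fiberι (π w) ⁻¹ᵁ W
    let V₁ : (π.fiber (π w)).Opens := ⟨(V₀ : Set _) ∪ {w'}, isOpen_discrete _⟩
    have hV₁ : IsFinite (V₁.ι ≫ q) := isFinite_piece (L := U.residueField (π w)) q V₁
      ((finite_of_isFinite (L := U.residueField (π w)) q V₀).union (Set.finite_singleton _))
    have hlt : V₀ < V₁ := lt_of_le_of_ne (fun x hx => Or.inl hx) fun e =>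
      hwW (by
        have : w' ∈ V₀ := (SetLike.ext_iff.1 e w').2 (Or.inr rfl)
        rw [← hw']
        exact this)
    have hlt' := pieceRank_lt (L := U.residueField (π w)) q hlt
    rw [h2] at hlt'
    exact (degGE_pullback f g (π w) _).1
      (ge_of_piece (L := U.residueField (π w)) q V₁ (Nat.succ_le_of_lt (hv.trans_lt hlt')))
  have hC : ProCons.IsProConstructible (π '' (W : Set _)ᶜ) := isProConstructible_image π
    (isProConstructible_iff_compl.2 (by rw [compl_compl]; exact isIndConstructible_of_isOpen W.2))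
  -- the fibre at `u` is inside the piece
  have hu : u ∉ π '' (W : Set _)ᶜ := fun h => by
    have := (hle s _).1 (hgu ▸ hout u (hN u huN) h)
    omega
  let N' : Set U := {v | (W.ι ≫ π).finrank v ≤ r}
  have hu' : u ∈ N' := (hle s _).1 (hgu ▸ (degGE_pullback f g u _).1 (degGE_of_piece π W le_rfl))
  have hN' : IsOpen N' := (W.ι ≫ π).isLocallyConstant_finrank (Set.Iic r)
  refine ⟨g '' ((π '' (W : Set _)ᶜ)ᶜ ∩ ((N : Set U) ∩ N')), isIndConstructible_image g
    (FlatMorWeight.isIndConstructible_inter (isProConstructible_iff_compl.1 hC)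
      (isIndConstructible_of_isOpen (N.2.inter hN'))), ⟨u, ⟨(show u ∈ (π '' (W : Set _)ᶜ)ᶜ from hu), huN, hu'⟩, hgu⟩, ?_⟩
  rintro _ ⟨v, ⟨hvC, hvN, hvN'⟩, rfl⟩
  refine le_antisymm ?_ ((hle _ _).1 ((degGE_pullback f g v _).1 (degGE_of_piece π W (hN v hvN))))
  by_contra hlt
  -- a bigger degree forces a point outside the piece
  have hd : degGE π v (r + 1) := (degGE_pullback f g v _).2 ((hle _ _).2 (not_le.1 hlt))
  obtain ⟨V, hV, hVd⟩ := exists_piece (L := U.residueField v) (π.fiberToSpecResidueField v) hd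
  obtain ⟨h1, h2⟩ := finrank_piece π W v
  by_cases hVW : V ≤ π.fiberι v ⁻¹ᵁ W
  · have := pieceRank_mono (L := U.residueField v) (π.fiberToSpecResidueField v) hVW
    rw [h2] at this
    have hvN'' : (W.ι ≫ π).finrank v ≤ r := hvN'
    omega
  · obtain ⟨w, hw, hwW⟩ := Set.not_subset.1 hVW
    exact hvC ⟨π.fiberι v w, hwW, (π.range_fiberι v).le ⟨w, rfl⟩⟩

theorem isRetrocompact_deg_eq (r : ℕ) : IsRetrocompact {s : S | deg f s = r} := by
  refine isRetrocompact_of_isLocallyConstructible
    (isLocallyConstructible_iff_ind_and_pro.2 ⟨?_, isProConstructible_iff_compl.2 ?_⟩) <;>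
    refine FlatMorWeight.isIndConstructible_of_forall_subset fun x hx => ?_ <;>
    obtain ⟨F, hF, hxF, hFd⟩ := exists_indConstructible_nhd f x
  · exact ⟨F, hF, hxF, fun y hy => (hFd y hy).trans hx⟩
  · exact ⟨F, hF, hxF, fun y hy (h : deg f y = r) => hx (show deg f x = r from (hFd y hy) ▸ h)⟩

end Groth.Agent.FlatMorDegree
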