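import Groth.Agent.FlatMorDegree.Fibre
import Groth.Prelude.Def_Mor2

/-! The degree function. -/

universe u

set_option autoImplicit false
set_option backward.isDefEq.respectTransparency false

open CategoryTheory Limits AlgebraicGeometry TopologicalSpace

namespace Groth.Agent.FlatMorDegree

variable {X S : Scheme.{u}} (f : X ⟶ S)
variable [IsSeparated f] [LocallyQuasiFinite f] [LocallyOfFiniteType f] [Flat f]
  [LocallyOfFinitePresentation f]

/-- The degree function, meaningful for bounded fibre degrees. -/
noncomputable def deg (s : S) : ℕ := sSup {d | degGE f s d}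

theorem degGE_iff_le_deg {s : S} {n : ℕ} (hn : ¬ degGE f s (n + 1)) (d : ℕ) :
    degGE f s d ↔ d ≤ deg f s := by
  have hbdd : BddAbove {d | degGE f s d} :=
    ⟨n, fun d hd => not_lt.1 fun h => hn (degGE_antitone f h hd)⟩
  exact ⟨fun h => le_csSup hbdd h,
    fun h => degGE_antitone f h (Nat.sSup_mem ⟨0, degGE_zero f s⟩ hbdd)⟩

theorem isClosed_deg_le (hbd : ∀ s, ∃ n, ¬ degGE f s (n + 1)) (r : ℕ) :
    IsClosed {s : S | deg f s ≤ r} := by
  have : {s : S | deg f s ≤ r} = {s | degGE f s (r + 1)}ᶜ := by
    ext s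
    obtain ⟨n, hn⟩ := hbd s
    simp only [Set.mem_setOf_eq, Set.mem_compl_iff, degGE_iff_le_deg f hn]
    omega
  rw [this]
  exact (isOpen_degGE f _).isClosed_compl

theorem isFinLocFreeOfDeg_iff (hbd : ∀ s, ∃ n, ¬ degGE f s (n + 1)) {T : Scheme.{u}} (g : T ⟶ S)
    (r : ℕ) : Mor2.IsFinLocFreeOfDeg r (pullback.snd f g) ↔ ∀ t : T, deg f (g t) = r := by
  have key : ∀ t d, degGE (pullback.snd f g) t d ↔ d ≤ deg f (g t) := fun t d => by
    obtain ⟨n, hn⟩ := hbd (g t)
    rw [degGE_pullback f g, degGE_iff_le_deg f hn]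
  constructor
  · rintro ⟨⟨hfin, hfl, -⟩, hr⟩ t
    have h1 := fun d => (key t d).symm.trans (degGE_iff_le_finrank (pullback.snd f g) t d)
    rw [hr t] at h1
    exact le_antisymm ((h1 _).1 le_rfl) ((h1 r).2 le_rfl)
  · intro h
    have hfin : IsFinite (pullback.snd f g) :=
      isFinite_of_forall (pullback.snd f g) (r := r) (fun t => (key t r).2 (h t).ge)
        (fun t ht => by
          have := (key t _).1 ht
          rw [h t] at this
          omega)
    refine ⟨⟨hfin, inferInstance, inferInstance⟩, fun t => ?_⟩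
    have h1 := fun d => (key t d).symm.trans (degGE_iff_le_finrank (pullback.snd f g) t d)
    rw [h t] at h1
    exact le_antisymm ((h1 _).2 le_rfl) ((h1 r).1 le_rfl)

theorem exists_not_degGE [QuasiCompact f] (s : S) : ∃ n, ¬ degGE f s (n + 1) := by
  let q := f.fiberToSpecResidueField s
  have : QuasiCompact q := MorphismProperty.pullback_snd _ _ inferInstance
  have : Finite (f.fiber s) := by
    have : CompactSpace (f.fiber s) := QuasiCompact.compactSpace_of_compactSpace q
    have : DiscreteTopology (f.fiber s) := discreteTopology_of_lqf (L := S.residueField s) q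
    exact finite_of_compact_of_discrete
  refine ⟨pieceRank (L := S.residueField s) q ⊤, fun h => ?_⟩
  obtain ⟨V, hV, hd⟩ := exists_piece (L := S.residueField s) q h
  have : IsFinite ((⊤ : (f.fiber s).Opens).ι ≫ q) :=
    isFinite_piece (L := S.residueField s) q ⊤ (Set.toFinite _)
  have := pieceRank_mono (L := S.residueField s) q (le_top : V ≤ ⊤)
  omega

end Groth.Agent.FlatMorDegree
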