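import Groth.Agent.FlatMorDegree.Rank
import Groth.Agent.FlatMor12.EtaleSplitting
import Groth.Agent.FlatMorWeight.Positive
import Groth.Agent.Et18.Descent
import Mathlib.AlgebraicGeometry.Morphisms.Etale
import Mathlib.AlgebraicGeometry.Fiber

/-!
# Fibre degrees of flat separated quasi-finite morphisms

`degGE f s d` says that the fibre of `f` at `s` has degree at least `d`. For a flat separated
locally quasi-finite morphism locally of finite presentation this is an open condition, and `f` is
finite as soon as the degree is constant.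
-/

universe u

set_option autoImplicit false
set_option backward.isDefEq.respectTransparency false

open CategoryTheory Limits AlgebraicGeometry TopologicalSpace

namespace Groth.Agent.FlatMorDegree

variable {X S : Scheme.{u}} (f : X ⟶ S)

/-- The fibre of `f` at `s` has degree at least `d`. -/
def degGE (s : S) (d : ℕ) : Prop := GE (S.residueField s) (f.fiberToSpecResidueField s) d

theorem degGE_antitone {s : S} {d d' : ℕ} (h : d ≤ d') (hd : degGE f s d') : degGE f s d :=
  le_trans (Nat.cast_le.2 h) hd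

theorem degGE_zero (s : S) : degGE f s 0 := by
  show ((0 : ℕ) : Cardinal.{u}) ≤ _
  rw [Nat.cast_zero]
  exact zero_le

variable [IsSeparated f] [LocallyQuasiFinite f] [LocallyOfFiniteType f]

instance isSeparated_fibre (y : S) : IsSeparated (f.fiberToSpecResidueField y) :=
  MorphismProperty.pullback_snd _ _ inferInstance

instance locallyQuasiFinite_fibre (y : S) : LocallyQuasiFinite (f.fiberToSpecResidueField y) :=
  MorphismProperty.pullback_snd _ _ inferInstance

instance locallyOfFiniteType_fibre (y : S) : LocallyOfFiniteType (f.fiberToSpecResidueField y) :=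
  MorphismProperty.pullback_snd _ _ inferInstance

omit [IsSeparated f] [LocallyQuasiFinite f] [LocallyOfFiniteType f] in
/-- A field-valued base change factors through the fibre. -/
theorem exists_fibre_map {L : Type u} [Field L] {T : Scheme.{u}} {p : T ⟶ X}
    {q : T ⟶ Spec (CommRingCat.of L)} {g : Spec (CommRingCat.of L) ⟶ S} (h : IsPullback p q f g)
    {y : S} (hy : g (IsLocalRing.closedPoint L) = y) :
    ∃ (l : T ⟶ f.fiber y) (m : Spec (CommRingCat.of L) ⟶ Spec (S.residueField y)),
      IsPullback l q (f.fiberToSpecResidueField y) m ∧ l ≫ f.fiberι y = p := by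
  subst hy
  set y := g (IsLocalRing.closedPoint L)
  let φ := S.descResidueField (Scheme.stalkClosedPointTo g)
  have hg : Spec.map φ ≫ S.fromSpecResidueField y = g :=
    Scheme.descResidueField_stalkClosedPointTo_fromSpecResidueField L S g
  have hF : IsPullback (f.fiberι y) (f.fiberToSpecResidueField y) f (S.fromSpecResidueField y) :=
    .of_hasPullback _ _
  let l : T ⟶ f.fiber y := hF.lift p (q ≫ Spec.map φ) (by rw [Category.assoc, hg]; exact h.w)
  refine ⟨l, Spec.map φ, ?_, hF.lift_fst ..⟩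
  refine IsPullback.of_right ?_ (hF.lift_snd ..) hF
  rw [show l ≫ f.fiberι y = p from hF.lift_fst .., hg]
  exact h

/-- The degree over any field point only depends on the fibre. -/
theorem ge_fibre {L : Type u} [Field L] {T : Scheme.{u}} {p : T ⟶ X}
    {q : T ⟶ Spec (CommRingCat.of L)} {g : Spec (CommRingCat.of L) ⟶ S} (h : IsPullback p q f g)
    (d : ℕ) : GE L q d ↔ degGE f (g (IsLocalRing.closedPoint L)) d := by
  obtain ⟨l, m, hl, -⟩ := exists_fibre_map f h rfl
  exact ge_of_isPullback (L := S.residueField (g (IsLocalRing.closedPoint L)))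
    (f.fiberToSpecResidueField _) hl d

theorem degGE_pullback {T : Scheme.{u}} (g : T ⟶ S) (t : T) (d : ℕ) :
    degGE (pullback.snd f g) t d ↔ degGE f (g t) d := by
  have hsq := (IsPullback.of_hasPullback (pullback.snd f g) (T.fromSpecResidueField t)).paste_horiz
    (IsPullback.of_hasPullback f g)
  have e : (T.fromSpecResidueField t ≫ g) (IsLocalRing.closedPoint (T.residueField t)) = g t := by
    rw [Scheme.Hom.comp_apply, Scheme.fromSpecResidueField_apply]
  have h : ∀ y, (T.fromSpecResidueField t ≫ g) (IsLocalRing.closedPoint (T.residueField t)) = y →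
      (degGE (pullback.snd f g) t d ↔ degGE f y d) := by
    rintro _ rfl
    exact ge_fibre (L := T.residueField t) f hsq d
  exact h _ e

/-- The degree of a finite piece over a point. -/
theorem finrank_piece [Flat f] (W : X.Opens) [IsFinite (W.ι ≫ f)] (v : S) :
    IsFinite ((f.fiberι v ⁻¹ᵁ W).ι ≫ f.fiberToSpecResidueField v) ∧
      pieceRank (L := S.residueField v) (f.fiberToSpecResidueField v) (f.fiberι v ⁻¹ᵁ W) =
        (W.ι ≫ f).finrank v := by
  have hsq : IsPullback (f.fiberι v ∣_ W) ((f.fiberι v ⁻¹ᵁ W).ι ≫ f.fiberToSpecResidueField v)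
      (W.ι ≫ f) (S.fromSpecResidueField v) :=
    (isPullback_morphismRestrict _ W).paste_vert (.of_hasPullback _ _)
  refine ⟨MorphismProperty.of_isPullback hsq inferInstance, ?_⟩
  show ((f.fiberι v ⁻¹ᵁ W).ι ≫ f.fiberToSpecResidueField v).finrank _ = _
  rw [Scheme.Hom.finrank_of_isPullback _ _ _ _ hsq, Scheme.fromSpecResidueField_apply]

theorem degGE_of_piece [Flat f] (W : X.Opens) [IsFinite (W.ι ≫ f)] {v : S} {d : ℕ}
    (h : d ≤ (W.ι ≫ f).finrank v) : degGE f v d := by
  obtain ⟨h1, h2⟩ := finrank_piece f W v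
  exact ge_of_piece (L := S.residueField v) (f.fiberToSpecResidueField v) _ (h2 ▸ h)

omit [LocallyQuasiFinite f] [LocallyOfFiniteType f] [IsSeparated f] in
theorem degGE_iff_le_finrank [Flat f] [IsFinite f] (v : S) (d : ℕ) :
    degGE f v d ↔ d ≤ f.finrank v := by
  have hT : IsFinite ((⊤ : X.Opens).ι ≫ f) := by
    have : IsIso (⊤ : X.Opens).ι := inferInstanceAs (IsIso X.topIso.hom)
    infer_instance
  have hrk : ((⊤ : X.Opens).ι ≫ f).finrank = f.finrank := by
    have : IsIso (⊤ : X.Opens).ι := inferInstanceAs (IsIso X.topIso.hom)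
    rw [Scheme.Hom.finrank_comp_left_of_isIso]
  obtain ⟨h1, h2⟩ := finrank_piece f ⊤ v
  rw [hrk] at h2
  refine ⟨fun h => ?_, fun h => degGE_of_piece f ⊤ (hrk ▸ h)⟩
  obtain ⟨V, hV, hd⟩ := exists_piece (L := S.residueField v) (f.fiberToSpecResidueField v) h
  exact hd.trans (h2 ▸ pieceRank_mono (L := S.residueField v) (f.fiberToSpecResidueField v)
    (fun x _ => trivial))

variable [Flat f] [LocallyOfFinitePresentation f]

theorem exists_etale_piece {s : S} {d : ℕ} (h : degGE f s d) :
    ∃ (U : Scheme.{u}) (g : U ⟶ S) (u : U), Etale g ∧ g u = s ∧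
      ∃ (W : (pullback f g).Opens) (_ : IsFinite (W.ι ≫ pullback.snd f g)) (N : U.Opens),
        u ∈ N ∧ ∀ v ∈ N, d ≤ (W.ι ≫ pullback.snd f g).finrank v := by
  classical
  obtain ⟨V, hV, hd⟩ := exists_piece (L := S.residueField s) (f.fiberToSpecResidueField s) h
  have hfin := finite_of_isFinite (L := S.residueField s) (f.fiberToSpecResidueField s) V
  obtain ⟨n, z, hzinj, hzrange⟩ := hfin.fin_param
  let x : Fin n → X := fun i => f.fiberι s (z i)
  have hxs : ∀ i, f (x i) = s := fun i => (f.range_fiberι s).le ⟨z i, rfl⟩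
  have hxq : ∀ i, f.QuasiFiniteAt (x i) := fun i => by
    have : x i ∈ f.quasiFiniteLocus := by rw [Scheme.Hom.quasiFiniteLocus_eq_top]; trivial
    exact this
  obtain ⟨U, g, u, hg, hgu, J, hJ, Vp, v, -, -, h3, h4⟩ :=
    Groth.Agent.FlatMor12.exists_etale_separating f s x hxs hxq
  have := fun i => Fintype.ofFinite (J i)
  let σ : Finset (Σ i, J i) := Finset.univ
  let W : (pullback f g).Opens := σ.sup fun a => Vp a.1 a.2
  have hW : IsFinite (W.ι ≫ pullback.snd f g) :=
    Groth.Agent.FlatMorWeight.isFinite_of_opens_cover (pullback.snd f g) σ (fun a => Vp a.1 a.2)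
      fun a _ => (h3 a.1 a.2).2.1
  have : Flat (W.ι ≫ pullback.snd f g) := inferInstance
  have : LocallyOfFinitePresentation (W.ι ≫ pullback.snd f g) := inferInstance
  have hu : d ≤ (W.ι ≫ pullback.snd f g).finrank u := by
    let π := pullback.snd f g
    let p := π.fiberι u ≫ pullback.fst f g
    have hsq : IsPullback p (π.fiberToSpecResidueField u) f (U.fromSpecResidueField u ≫ g) :=
      (IsPullback.of_hasPullback π (U.fromSpecResidueField u)).paste_horiz (.of_hasPullback f g)
    have hg0 : (U.fromSpecResidueField u ≫ g) (IsLocalRing.closedPoint (U.residueField u)) = s := by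
      rw [Scheme.Hom.comp_apply, Scheme.fromSpecResidueField_apply, hgu]
    obtain ⟨l, m, hl, hlp⟩ := exists_fibre_map (L := U.residueField u) f hsq hg0
    obtain ⟨h1, h2⟩ := pieceRank_preimage (L := S.residueField s) (L' := U.residueField u)
      (f.fiberToSpecResidueField s) hl V
    obtain ⟨k1, k2⟩ := finrank_piece π W u
    show d ≤ (W.ι ≫ π).finrank u
    rw [← k2]
    refine le_trans (h2 ▸ hd) (pieceRank_mono (L := U.residueField u) (π.fiberToSpecResidueField u) ?_)
    intro w hw
    obtain ⟨i, hi⟩ : l w ∈ Set.range z := by rw [hzrange]; exact hw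
    have e1 : pullback.fst f g (π.fiberι u w) = x i := by
      show p w = f.fiberι s (z i)
      rw [hi, ← Scheme.Hom.comp_apply, hlp]
    obtain ⟨j, hj⟩ := h4 (π.fiberι u w) i ((π.range_fiberι u).le ⟨w, rfl⟩) e1
    exact Finset.le_sup (f := fun a : Σ i, J i => Vp a.1 a.2) (Finset.mem_univ ⟨i, j⟩) hj
  have hlc := (W.ι ≫ pullback.snd f g).isLocallyConstant_finrank
  exact ⟨U, g, u, hg, hgu, W, hW,
    ⟨(W.ι ≫ pullback.snd f g).finrank ⁻¹' Set.Ici d, hlc _⟩, hu, fun _ hv => hv⟩

theorem isOpen_degGE (d : ℕ) : IsOpen {s : S | degGE f s d} := by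
  rw [isOpen_iff_forall_mem_open]
  intro s hs
  obtain ⟨U, g, u, hg, hgu, W, hW, N, huN, hN⟩ := exists_etale_piece f hs
  refine ⟨g '' N, ?_, g.isOpenMap _ N.2, ⟨u, huN, hgu⟩⟩
  rintro _ ⟨v, hv, rfl⟩
  exact (degGE_pullback f g v d).1 (degGE_of_piece (pullback.snd f g) W (hN v hv))

/-- Constant degree implies finiteness. -/
theorem isFinite_of_forall {r : ℕ} (h : ∀ s, degGE f s r) (h' : ∀ s, ¬ degGE f s (r + 1)) :
    IsFinite f := by
  classical
  have key : ∀ s : S, ∃ A : S.Opens, s ∈ A ∧ IsFinite (f ∣_ A) := by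
    intro s
    obtain ⟨U, g, u, hg, hgu, W, hW, N₀, huN, hN⟩ := exists_etale_piece f (h s)
    let π := pullback.snd f g
    obtain ⟨A₀, hA₀, hsA₀, -⟩ := exists_isAffineOpen_mem_and_subset (x := s) (U := ⊤) (Set.mem_univ _)
    obtain ⟨N, hNaff, huN', hNle⟩ := exists_isAffineOpen_mem_and_subset (x := u)
      (U := N₀ ⊓ g ⁻¹ᵁ A₀) ⟨huN, show g u ∈ A₀ by rw [hgu]; exact hsA₀⟩
    have hle : π ⁻¹ᵁ N ≤ W := by
      intro w hw
      by_contra hwW
      obtain ⟨w', hw'⟩ : w ∈ Set.range (π.fiberι (π w)) := by rw [π.range_fiberι]; rfl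
      obtain ⟨h1, h2⟩ := finrank_piece π W (π w)
      let q := π.fiberToSpecResidueField (π w)
      have : DiscreteTopology (π.fiber (π w)) :=
        discreteTopology_of_lqf (L := U.residueField (π w)) q
      let V₀ := π.fiberι (π w) ⁻¹ᵁ W
      let V₁ : (π.fiber (π w)).Opens := ⟨(V₀ : Set _) ∪ {w'}, isOpen_discrete _⟩
      have hV₁ : IsFinite (V₁.ι ≫ q) := isFinite_piece (L := U.residueField (π w)) q V₁
        ((finite_of_isFinite (L := U.residueField (π w)) q V₀).union (Set.finite_singleton _))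
      have hlt : V₀ < V₁ := lt_of_le_of_ne (fun x hx => Or.inl hx) fun e =>
        hwW (by
          have : w' ∈ V₀ := (SetLike.ext_iff.1 e w').2 (Or.inr rfl)
          rw [← hw']
          exact this)
      have hlt' := pieceRank_lt (L := U.residueField (π w)) q hlt
      have hge : r + 1 ≤ pieceRank (L := U.residueField (π w)) q V₁ := by
        have := hN (π w) (hNle hw).1
        rw [h2] at hlt'
        exact Nat.succ_le_of_lt (this.trans_lt hlt')
      exact h' (g (π w)) ((degGE_pullback f g (π w) _).1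
        (ge_of_piece (L := U.residueField (π w)) q V₁ hge))
    have hfinN : IsFinite (π ∣_ N) := by
      let O := (W.ι ≫ π) ⁻¹ᵁ N
      have hrange : Set.range (π ⁻¹ᵁ N).ι = Set.range (O.ι ≫ W.ι) := by
        rw [Scheme.Opens.range_ι, Scheme.Hom.comp_base, TopCat.coe_comp, Set.range_comp,
          Scheme.Opens.range_ι]
        ext w
        exact ⟨fun hw => ⟨⟨w, hle hw⟩, hw, rfl⟩, by rintro ⟨a, ha, rfl⟩; exact ha⟩
      let e := IsOpenImmersion.isoOfRangeEq (π ⁻¹ᵁ N).ι (O.ι ≫ W.ι) hrange
      have : π ∣_ N = e.hom ≫ ((W.ι ≫ π) ∣_ N) := by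
        rw [← cancel_mono N.ι, Category.assoc, morphismRestrict_ι, morphismRestrict_ι,
          ← IsOpenImmersion.isoOfRangeEq_hom_fac (π ⁻¹ᵁ N).ι (O.ι ≫ W.ι) hrange]
        simp only [Category.assoc, e, O]
      rw [this]
      infer_instance
    let A : S.Opens := ⟨g '' N, g.isOpenMap _ N.2⟩
    refine ⟨A, ⟨u, huN', hgu⟩, ?_⟩
    have hr : Set.range (N.ι ≫ g) ⊆ Set.range A.ι := by
      rw [Scheme.Opens.range_ι]
      rintro _ ⟨a, rfl⟩
      exact ⟨a.1, a.2, rfl⟩
    let g' := IsOpenImmersion.lift A.ι (N.ι ≫ g) hr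
    have hg' : g' ≫ A.ι = N.ι ≫ g := IsOpenImmersion.lift_fac _ _ _
    have hsurj : Surjective g' := ⟨fun a => by
      obtain ⟨v, hv, hva⟩ := (show A.ι a ∈ g '' (N : Set U) from a.2)
      refine ⟨⟨v, hv⟩, A.ι.isOpenEmbedding.injective ?_⟩
      rw [← Scheme.Hom.comp_apply, hg']
      exact hva⟩
    have : IsAffine N.toScheme := hNaff
    have : A.toScheme.IsSeparated := by
      have : IsAffine A₀.toScheme := hA₀
      have hAle : A ≤ A₀ := by
        rintro _ ⟨v, hv, rfl⟩
        exact (hNle hv).2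
      exact ⟨by
        rw [← terminal.comp_from (S.homOfLE hAle)]
        infer_instance⟩
    have hflat : Flat g' := by
      have : Flat (g' ≫ A.ι) := by rw [hg']; infer_instance
      exact MorphismProperty.of_postcomp (W := @Flat) (W' := @IsOpenImmersion) g' A.ι inferInstance this
    have hsq₀ : IsPullback ((π ⁻¹ᵁ N).ι ≫ pullback.fst f g) (π ∣_ N) f (N.ι ≫ g) :=
      ((isPullback_morphismRestrict π N).flip).paste_horiz (.of_hasPullback f g)
    have hA : IsPullback (f ⁻¹ᵁ A).ι (f ∣_ A) f A.ι := (isPullback_morphismRestrict f A).flip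
    let l := hA.lift ((π ⁻¹ᵁ N).ι ≫ pullback.fst f g) ((π ∣_ N) ≫ g')
      (by rw [Category.assoc, Category.assoc, hg']; exact (Category.assoc _ _ _).symm.trans hsq₀.w)
    have hsq : IsPullback l (π ∣_ N) (f ∣_ A) g' := by
      refine IsPullback.of_right ?_ (hA.lift_snd ..) hA
      rw [hA.lift_fst, hg']
      exact hsq₀
    have := Et18.descends_isFinite.{u}
    exact MorphismProperty.of_isPullback_of_descendsAlong (P := @IsFinite) (Q := Et18.FPQC)
      hsq.flip ⟨⟨hsurj, hflat⟩, inferInstance⟩ hfinN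
  choose A hA hfA using key
  exact IsZariskiLocalAtTarget.of_iSup_eq_top A
    (top_le_iff.1 fun s _ => Opens.mem_iSup.2 ⟨s, hA s⟩) hfA

end Groth.Agent.FlatMorDegree
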