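import Groth.Agent.BddFibLib29.Basic
import Mathlib.AlgebraicGeometry.Morphisms.QuasiFinite
import Mathlib.AlgebraicGeometry.Artinian
import Mathlib.LinearAlgebra.Dimension.RankNullity
import Mathlib.LinearAlgebra.FiniteDimensional.Basic

/-!
# The rank of the ring of functions of a locally quasi-finite scheme over a field

`GE L q d` says that the ring of functions of `q : T → Spec L` has rank at least `d`; it is detected
on finite open pieces and is invariant under extensions of the field.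
-/

universe u

set_option autoImplicit false
set_option backward.isDefEq.respectTransparency false

open CategoryTheory Limits AlgebraicGeometry TopologicalSpace
open Groth.Agent.BddFibLib29

namespace Groth.Agent.FlatMorDegree

/-- The rank of the functions is at least `d`. -/
def GE (L : Type u) [Field L] {T : Scheme.{u}} (q : T ⟶ Spec (CommRingCat.of L)) (d : ℕ) : Prop :=
  letI := BddFib.secAlgebra (CommRingCat.of L) q
  (d : Cardinal.{u}) ≤ Module.rank L (Γ(T, ⊤) : Type u)

variable {L : Type u} [Field L] {T : Scheme.{u}} (q : T ⟶ Spec (CommRingCat.of L))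

theorem exists_glue (V : T.Opens) (W : T.Opens) (hd : V ⊓ W = ⊥) (hc : ⊤ ≤ V ⊔ W) (a : Γ(T, V))
    (b : Γ(T, W)) : ∃ s : Γ(T, ⊤), T.presheaf.map (homOfLE le_top).op s = a ∧
      T.presheaf.map (homOfLE le_top).op s = b := by
  let U : Bool → T.Opens := fun i => cond i V W
  let sf : ∀ i, Γ(T, U i) := fun i => match i with
    | true => a
    | false => b
  have hsub : ∀ O : T.Opens, O ≤ ⊥ → Subsingleton Γ(T, O) := fun O hO => by
    obtain rfl := le_bot_iff.1 hO
    infer_instance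
  obtain ⟨s, hs, -⟩ := T.sheaf.existsUnique_gluing' U ⊤ (fun _ => homOfLE le_top)
    (hc.trans (sup_le (le_iSup U true) (le_iSup U false))) sf (by
      intro i j
      cases i <;> cases j
      · rfl
      · exact (hsub _ (show W ⊓ V ≤ ⊥ by rw [← hd, inf_comm V W])).elim _ _
      · exact (hsub _ (show V ⊓ W ≤ ⊥ by rw [← hd])).elim _ _
      · rfl)
  exact ⟨s, hs true, hs false⟩

section

variable [DiscreteTopology T]

theorem exists_compl (V : T.Opens) : ∃ W : T.Opens, V ⊓ W = ⊥ ∧ ⊤ ≤ V ⊔ W ∧ (W : Set T) = (V : Set T)ᶜ := by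
  refine ⟨⟨(V : Set T)ᶜ, isOpen_discrete _⟩, Opens.ext ?_, fun x _ => ?_, rfl⟩
  · show (V : Set T) ∩ (V : Set T)ᶜ = ∅
    simp
  · exact Opens.mem_sup.2 (em (x ∈ V))

theorem res_surjective (V : T.Opens) :
    Function.Surjective (T.presheaf.map (homOfLE (le_top : V ≤ ⊤)).op).hom := by
  intro a
  obtain ⟨W, hd, hc, -⟩ := exists_compl V
  obtain ⟨s, hs, -⟩ := exists_glue V W hd hc a 0
  exact ⟨s, hs⟩

theorem ι_appTop_surjective (V : T.Opens) : Function.Surjective V.ι.appTop.hom := by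
  rw [Scheme.Hom.appTop, Scheme.Opens.ι_app]
  have : ∀ (O : T.Opens) (h : O ≤ ⊤), Function.Surjective (T.presheaf.map (homOfLE h).op).hom :=
    fun O _ => res_surjective O
  exact this _ _

theorem exists_mem_ker_ne_zero (V : T.Opens) (h : V ≠ ⊤) : ∃ s : Γ(T, ⊤), V.ι.appTop s = 0 ∧ s ≠ 0 := by
  obtain ⟨W, hd, hc, hW⟩ := exists_compl V
  obtain ⟨s, hs, hs'⟩ := exists_glue V W hd hc 0 1
  refine ⟨s, ?_, fun h0 => ?_⟩
  · rw [Scheme.Hom.appTop, Scheme.Opens.ι_app]
    have : ∀ (O : T.Opens) (e : O ≤ V) (h : O ≤ ⊤), T.presheaf.map (homOfLE h).op s = 0 := by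
      intro O e h
      rw [show (homOfLE h).op = (homOfLE (le_top : V ≤ ⊤)).op ≫ (homOfLE e).op from rfl,
        T.presheaf.map_comp, ConcreteCategory.comp_apply, hs, map_zero]
    exact this _ (show V.ι ''ᵁ (⊤ : V.toScheme.Opens) ≤ V by rw [Scheme.Opens.ι_image_top]) _
  · obtain ⟨x, hx⟩ : ∃ x, x ∈ W := by
      by_contra hne
      push Not at hne
      exact h (top_le_iff.1 fun x hx => (Opens.mem_sup.1 (hc hx)).resolve_right (hne x))
    have : Nontrivial Γ(T, W) := haveI : Nonempty W.toScheme := ⟨⟨x, hx⟩⟩; T.component_nontrivial W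
    rw [h0, map_zero] at hs'
    exact zero_ne_one hs'

/-- The restriction to an open piece, as a linear map. -/
noncomputable def res (V : T.Opens) :
    letI := BddFib.secAlgebra (CommRingCat.of L) q
    letI := BddFib.secAlgebra (CommRingCat.of L) (V.ι ≫ q)
    Γ(T, ⊤) →ₗ[L] Γ(V.toScheme, ⊤) :=
  letI := BddFib.secAlgebra (CommRingCat.of L) q
  letI := BddFib.secAlgebra (CommRingCat.of L) (V.ι ≫ q)
  ({ toRingHom := V.ι.appTop.hom
     commutes' := fun r => by
       show V.ι.appTop (((Scheme.ΓSpecIso _).inv ≫ q.appTop) r) =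
         ((Scheme.ΓSpecIso _).inv ≫ (V.ι ≫ q).appTop) r
       rw [Scheme.Hom.comp_appTop]
       rfl } : Γ(T, ⊤) →ₐ[L] Γ(V.toScheme, ⊤)).toLinearMap

end

/-- The degree of a piece. -/
noncomputable abbrev pieceRank (V : T.Opens) : ℕ := (V.ι ≫ q).finrank (IsLocalRing.closedPoint L)

variable [IsSeparated q] [LocallyQuasiFinite q] [LocallyOfFiniteType q]

include q in
omit [IsSeparated q] [LocallyOfFiniteType q] in
theorem discreteTopology_of_lqf : DiscreteTopology T :=
  haveI : IsLocallyArtinian T := IsLocallyArtinian.of_locallyQuasiFinite q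
  inferInstance

theorem isFinite_piece (V : T.Opens) (hV : (V : Set T).Finite) : IsFinite (V.ι ≫ q) := by
  have : CompactSpace V.toScheme := isCompact_iff_compactSpace.1 hV.isCompact
  have : QuasiCompact (V.ι ≫ q) := (quasiCompact_iff_compactSpace _).2 inferInstance
  exact IsFinite.of_locallyQuasiFinite _

theorem finite_of_isFinite (V : T.Opens) [IsFinite (V.ι ≫ q)] : (V : Set T).Finite := by
  have : DiscreteTopology T := discreteTopology_of_lqf q
  have : CompactSpace V.toScheme := QuasiCompact.compactSpace_of_compactSpace (V.ι ≫ q)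
  exact (isCompact_iff_compactSpace.2 (inferInstanceAs (CompactSpace V.toScheme))).finite_of_discrete

theorem finite_and_finrank (V : T.Opens) [IsFinite (V.ι ≫ q)] :
    letI := BddFib.secAlgebra (CommRingCat.of L) (V.ι ≫ q)
    Module.Finite L Γ(V.toScheme, ⊤) ∧ pieceRank q V = Module.finrank L Γ(V.toScheme, ⊤) := by
  let _ := BddFib.secAlgebra (CommRingCat.of L) (V.ι ≫ q)
  have : IsAffine V.toScheme := isAffine_of_isAffineHom (V.ι ≫ q)
  have hfin : Module.Finite L Γ(V.toScheme, ⊤) := by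
    have := (V.ι ≫ q).finite_appTop
    rw [← RingHom.finite_respectsIso.cancel_left_isIso (Scheme.ΓSpecIso (CommRingCat.of L)).inv,
      ← CommRingCat.hom_comp] at this
    exact RingHom.finite_algebraMap.1 this
  exact ⟨hfin, finrank_eq_of_affine L (V.ι ≫ q) hfin⟩

theorem ge_of_piece (V : T.Opens) [IsFinite (V.ι ≫ q)] {d : ℕ} (h : d ≤ pieceRank q V) : GE L q d := by
  have : DiscreteTopology T := discreteTopology_of_lqf q
  let _ := BddFib.secAlgebra (CommRingCat.of L) q
  let _ := BddFib.secAlgebra (CommRingCat.of L) (V.ι ≫ q)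
  obtain ⟨hfin, hrk⟩ := finite_and_finrank q V
  have h1 := LinearMap.rank_le_of_surjective (res q V) (ι_appTop_surjective V)
  rw [← Module.finrank_eq_rank] at h1
  exact (Nat.cast_le.2 (hrk ▸ h)).trans h1

theorem ι_homOfLE {V V' : T.Opens} (h : V ≤ V') :
    (V'.ι ⁻¹ᵁ V).ι ≫ V'.ι = ((V'.ι.isoImage (V'.ι ⁻¹ᵁ V)) ≪≫ T.isoOfEq (by
      rw [Scheme.Hom.image_preimage_eq_opensRange_inf, Scheme.Opens.opensRange_ι]
      exact inf_eq_right.2 h)).hom ≫ V.ι := by
  simp

theorem pieceRank_lt {V V' : T.Opens} (h : V < V') [IsFinite (V'.ι ≫ q)] :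
    pieceRank q V < pieceRank q V' := by
  have : DiscreteTopology T := discreteTopology_of_lqf q
  have hV : IsFinite (V.ι ≫ q) := isFinite_piece q V ((finite_of_isFinite q V').subset h.le)
  let O : V'.toScheme.Opens := V'.ι ⁻¹ᵁ V
  have : DiscreteTopology V'.toScheme := discreteTopology_of_lqf (V'.ι ≫ q)
  let i := (V'.ι.isoImage O) ≪≫ T.isoOfEq (show V'.ι ''ᵁ O = V by
    rw [Scheme.Hom.image_preimage_eq_opensRange_inf, Scheme.Opens.opensRange_ι]
    exact inf_eq_right.2 h.le)
  have e : O.ι ≫ V'.ι ≫ q = i.hom ≫ V.ι ≫ q := by simp [i, O]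
  have hO : IsFinite (O.ι ≫ V'.ι ≫ q) := by rw [e]; infer_instance
  have : Flat (V.ι ≫ q) := flat_toSpecField L _
  have hr : pieceRank q V = pieceRank (V'.ι ≫ q) O := by
    show _ = (O.ι ≫ V'.ι ≫ q).finrank _
    rw [e, Scheme.Hom.finrank_comp_left_of_isIso]
  rw [hr]
  let _ := BddFib.secAlgebra (CommRingCat.of L) (V'.ι ≫ q)
  let _ := BddFib.secAlgebra (CommRingCat.of L) (O.ι ≫ V'.ι ≫ q)
  obtain ⟨hfO, hrO⟩ := finite_and_finrank (V'.ι ≫ q) O
  obtain ⟨hfV, hrV⟩ := finite_and_finrank q V'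
  rw [hrO, hrV]
  have hOne : O ≠ ⊤ := fun hO' => by
    refine h.not_ge fun x hx => ?_
    have hm : (⟨x, hx⟩ : V'.toScheme) ∈ O := hO' ▸ trivial
    exact hm
  obtain ⟨s, hs, hs0⟩ := exists_mem_ker_ne_zero O hOne
  rw [← LinearMap.finrank_range_add_finrank_ker (res (V'.ι ≫ q) O),
    LinearMap.range_eq_top.2 (ι_appTop_surjective O), finrank_top]
  exact Nat.lt_add_of_pos_right (Module.finrank_pos_iff.2
    ⟨⟨⟨s, hs⟩, 0, fun h0 => hs0 (congrArg Subtype.val h0)⟩⟩)

theorem pieceRank_mono {V V' : T.Opens} (h : V ≤ V') [IsFinite (V'.ι ≫ q)] :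
    pieceRank q V ≤ pieceRank q V' := by
  rcases h.lt_or_eq with h | rfl
  · exact (pieceRank_lt q h).le
  · exact le_rfl

theorem exists_piece {d : ℕ} (h : GE L q d) :
    ∃ V : T.Opens, IsFinite (V.ι ≫ q) ∧ d ≤ pieceRank q V := by
  classical
  have : DiscreteTopology T := discreteTopology_of_lqf q
  by_cases hfin : Finite T
  · have hT : IsFinite ((⊤ : T.Opens).ι ≫ q) := isFinite_piece q ⊤ (Set.toFinite _)
    refine ⟨⊤, hT, ?_⟩
    let _ := BddFib.secAlgebra (CommRingCat.of L) q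
    let _ := BddFib.secAlgebra (CommRingCat.of L) ((⊤ : T.Opens).ι ≫ q)
    obtain ⟨hf, hr⟩ := finite_and_finrank q ⊤
    rw [hr, ← Nat.cast_le (α := Cardinal.{u}), Module.finrank_eq_rank]
    refine le_trans h (LinearMap.rank_le_of_injective (res q ⊤) ?_)
    have : IsIso (⊤ : T.Opens).ι := inferInstanceAs (IsIso T.topIso.hom)
    exact (ConcreteCategory.bijective_of_isIso (⊤ : T.Opens).ι.appTop).1
  · have : Infinite T := not_finite_iff_infinite.1 hfin
    obtain ⟨F, hF⟩ := Infinite.exists_subset_card_eq T d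
    suffices key : ∀ F : Finset T, F.card ≤ pieceRank q ⟨F, isOpen_discrete _⟩ from
      ⟨⟨F, isOpen_discrete _⟩, isFinite_piece q ⟨F, isOpen_discrete _⟩ F.finite_toSet, hF ▸ key F⟩
    intro F
    induction F using Finset.induction_on with
    | empty => simp
    | @insert a F ha ih =>
      let W : T.Opens := ⟨(insert a F : Finset T), isOpen_discrete _⟩
      have : IsFinite (W.ι ≫ q) := isFinite_piece q W (Finset.finite_toSet (insert a F))
      have hlt : (⟨F, isOpen_discrete _⟩ : T.Opens) < ⟨(insert a F : Finset T), isOpen_discrete _⟩ :=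
        lt_of_le_of_ne (fun x hx => Finset.mem_insert_of_mem hx) fun e =>
          ha ((SetLike.ext_iff.1 e a).2 (Finset.mem_insert_self a F))
      rw [Finset.card_insert_of_notMem ha]
      exact (Nat.succ_le_succ ih).trans (pieceRank_lt q hlt)

theorem ge_iff (d : ℕ) : GE L q d ↔ ∃ V : T.Opens, IsFinite (V.ι ≫ q) ∧ d ≤ pieceRank q V :=
  ⟨exists_piece q, fun ⟨V, hV, h⟩ => ge_of_piece q V h⟩

variable {L' : Type u} [Field L'] {T' : Scheme.{u}} {q' : T' ⟶ Spec (CommRingCat.of L')} {p : T' ⟶ T}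
  {g : Spec (CommRingCat.of L') ⟶ Spec (CommRingCat.of L)}

theorem pieceRank_preimage (h : IsPullback p q' q g) (V : T.Opens) [IsFinite (V.ι ≫ q)] :
    IsFinite ((p ⁻¹ᵁ V).ι ≫ q') ∧ pieceRank q' (p ⁻¹ᵁ V) = pieceRank q V := by
  have hsq : IsPullback (p ∣_ V) ((p ⁻¹ᵁ V).ι ≫ q') (V.ι ≫ q) g :=
    (isPullback_morphismRestrict p V).paste_vert h
  have : Flat (V.ι ≫ q) := flat_toSpecField L _
  refine ⟨MorphismProperty.of_isPullback hsq inferInstance, ?_⟩
  show ((p ⁻¹ᵁ V).ι ≫ q').finrank _ = _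
  rw [Scheme.Hom.finrank_of_isPullback _ _ _ g hsq]
  exact congrArg (V.ι ≫ q).finrank (Subsingleton.elim (α := PrimeSpectrum L) _ _)

theorem ge_of_isPullback (h : IsPullback p q' q g) (d : ℕ) : GE L' q' d ↔ GE L q d := by
  have : IsSeparated q' := MorphismProperty.of_isPullback h inferInstance
  have : LocallyQuasiFinite q' := MorphismProperty.of_isPullback h inferInstance
  have : LocallyOfFiniteType q' := MorphismProperty.of_isPullback h inferInstance
  have : DiscreteTopology T := discreteTopology_of_lqf q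
  refine ⟨fun hd => ?_, fun hd => ?_⟩
  · obtain ⟨V', hV', hr⟩ := exists_piece q' hd
    let V : T.Opens := ⟨p '' V', isOpen_discrete _⟩
    have hVf : IsFinite (V.ι ≫ q) := isFinite_piece q V ((finite_of_isFinite q' V').image p)
    obtain ⟨h1, h2⟩ := pieceRank_preimage q h V
    refine ge_of_piece q V (hr.trans ?_)
    rw [← h2]
    exact pieceRank_mono q' fun x hx => ⟨x, hx, rfl⟩
  · obtain ⟨V, hV, hr⟩ := exists_piece q hd
    obtain ⟨h1, h2⟩ := pieceRank_preimage q h V
    exact ge_of_piece q' (p ⁻¹ᵁ V) (h2 ▸ hr)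

end Groth.Agent.FlatMorDegree
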